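import Mathlib

/-! The universal splitting algebra of a monic polynomial and its staircase basis. -/

set_option autoImplicit false

universe u v

noncomputable section

open Polynomial

namespace Groth.SplitAlg

/-- Exponents of the staircase basis. -/
abbrev Stair (n : ℕ) := Π i : Fin n, Fin (n - (i : ℕ))

/-- The staircase monomial at a point. -/
def mon {A : Type v} [CommRing A] {n : ℕ} (τ : Fin n → A) (d : Stair n) : A := ∏ i, τ i ^ (d i : ℕ)

/-- Splitting off the first exponent. -/
def stairEquiv (n : ℕ) : Stair (n + 1) ≃ Fin (n + 1) × Stair n where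
  toFun d := (⟨d 0, by have := (d 0).2; simp at this ⊢; omega⟩,
    fun i => ⟨d i.succ, by have := (d i.succ).2; simp at this ⊢; omega⟩)
  invFun p := Fin.cons (⟨p.1, by have := p.1.2; simp; omega⟩ : Fin (n + 1 - ((0 : Fin (n + 1)) : ℕ)))
    fun i => (⟨p.2 i, by have := (p.2 i).2; simp⟩ : Fin (n + 1 - (i.succ : ℕ)))
  left_inv d := by
    funext i
    refine Fin.cases ?_ (fun j => ?_) i <;> simp
  right_inv p := by
    refine Prod.ext ?_ ?_
    · simp
    · funext i; simp

theorem mon_stairEquiv_symm {A : Type v} [CommRing A] {n : ℕ} (τ : Fin (n + 1) → A) (p : Fin (n + 1) × Stair n) :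
    mon τ ((stairEquiv n).symm p) = τ 0 ^ (p.1 : ℕ) * mon (fun i => τ i.succ) p.2 := by
  simp [mon, stairEquiv, Fin.prod_univ_succ]

theorem exists_root {R : Type u} [CommRing R] [Nontrivial R] {n : ℕ} {f : R[X]} (hf : f.Monic) (hd : f.natDegree = n + 1) :
    ∃ g : (AdjoinRoot f)[X], g.Monic ∧ g.natDegree = n ∧ Nontrivial (AdjoinRoot f) ∧
      f.map (AdjoinRoot.of f) = (X - C (AdjoinRoot.root f)) * g := by
  have hnt : Nontrivial (AdjoinRoot f) :=
    nontrivial_of_ne ((AdjoinRoot.powerBasis' hf).basis ⟨0, by simp [hd]⟩) 0 (Module.Basis.ne_zero _ _)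
  have h0 : (f.map (AdjoinRoot.of f)).IsRoot (AdjoinRoot.root f) := by
    rw [IsRoot, eval_map]; exact AdjoinRoot.eval₂_root f
  obtain ⟨g, hg⟩ := dvd_iff_isRoot.2 h0
  have hm : (f.map (AdjoinRoot.of f)).Monic := hf.map _
  have hgm : g.Monic := (monic_X_sub_C _).of_mul_monic_left (hg ▸ hm)
  refine ⟨g, hgm, ?_, hnt, hg⟩
  have := congrArg natDegree hg
  rw [(monic_X_sub_C _).natDegree_mul hgm, natDegree_X_sub_C, hf.natDegree_map, hd] at this
  omega

theorem exists_splitting : ∀ (n : ℕ) (R : Type u) [CommRing R] [Nontrivial R] (f : R[X]), f.Monic → f.natDegree = n →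
    ∃ (A : Type u) (_ : CommRing A) (_ : Algebra R A) (τ : Fin n → A),
      ∏ i, (X - C (τ i)) = f.map (algebraMap R A) ∧ LinearIndependent R (mon τ) := by
  intro n
  induction n with
  | zero =>
    intro R _ _ f hf hd
    refine ⟨R, inferInstance, inferInstance, Fin.elim0, ?_, ?_⟩
    · simp [hf.natDegree_eq_zero.1 hd]
    · rw [Fintype.linearIndependent_iff]
      intro c hc d
      rw [Finset.sum_eq_single d (fun e _ he => absurd (_root_.funext fun i : Fin 0 => i.elim0) he)
        (fun h => absurd (Finset.mem_univ d) h)] at hc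
      simpa [mon] using hc
  | succ n ih =>
    intro R _ _ f hf hd
    obtain ⟨g, hgm, hgd, hnt, hfg⟩ := exists_root hf hd
    obtain ⟨A, _, _, τ, hτ, hli⟩ := ih (AdjoinRoot f) g hgm hgd
    letI : Algebra R A := ((algebraMap (AdjoinRoot f) A).comp (AdjoinRoot.of f)).toAlgebra
    haveI : IsScalarTower R (AdjoinRoot f) A := IsScalarTower.of_algebraMap_eq fun _ => rfl
    refine ⟨A, inferInstance, inferInstance, Fin.cons (algebraMap (AdjoinRoot f) A (AdjoinRoot.root f)) τ, ?_, ?_⟩
    · rw [Fin.prod_univ_succ, Fin.cons_zero]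
      simp only [Fin.cons_succ]
      rw [hτ, IsScalarTower.algebraMap_eq R (AdjoinRoot f) A, AdjoinRoot.algebraMap_eq, ← map_map, hfg,
        Polynomial.map_mul, Polynomial.map_sub, map_X, map_C]
    · rw [← linearIndependent_equiv (stairEquiv n).symm, Fintype.linearIndependent_iff]
      intro c hc p
      have h1 : ∀ d : Stair n, ∑ e : Fin (n + 1), c (e, d) • AdjoinRoot.root f ^ (e : ℕ) = 0 := by
        refine Fintype.linearIndependent_iff.1 hli _ ?_
        rw [← hc, Fintype.sum_prod_type_right]
        refine Finset.sum_congr rfl fun d _ => ?_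
        rw [Finset.sum_smul]
        refine Finset.sum_congr rfl fun e _ => ?_
        rw [Function.comp_apply, mon_stairEquiv_symm, smul_assoc, Algebra.smul_def (AdjoinRoot.root f ^ (e : ℕ)), map_pow,
          Fin.cons_zero]
        simp only [Fin.cons_succ]
      let pb := AdjoinRoot.powerBasis' hf
      have hdim : pb.dim = n + 1 := hd
      have h2 : LinearIndependent R (fun e : Fin (n + 1) => AdjoinRoot.root f ^ (e : ℕ)) := by
        have := pb.basis.linearIndependent.comp (Fin.cast hdim.symm) (Fin.cast_injective _)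
        convert this using 1
        funext e
        simp [pb, PowerBasis.basis_eq_pow]
      exact Fintype.linearIndependent_iff.1 h2 _ (h1 p.2) p.1

theorem exists_sum_mon : ∀ (n : ℕ) (R : Type u) [CommRing R] [Nontrivial R] (f : R[X]), f.Monic → f.natDegree = n →
    ∀ (A : Type v) [CommRing A] [Algebra R A] (τ : Fin n → A), ∏ i, (X - C (τ i)) = f.map (algebraMap R A) →
      Algebra.adjoin R (Set.range τ) = ⊤ → ∀ x : A, x ∈ Submodule.span R (Set.range (mon τ)) := by
  intro n
  induction n with
  | zero =>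
    intro R _ _ f hf hd A _ _ τ hτ hgen x
    have hx : x ∈ (⊥ : Subalgebra R A) := by
      have : x ∈ Algebra.adjoin R (Set.range τ) := hgen ▸ Algebra.mem_top
      rwa [Set.range_eq_empty τ, Algebra.adjoin_empty] at this
    obtain ⟨r, rfl⟩ := Algebra.mem_bot.1 hx
    rw [Algebra.algebraMap_eq_smul_one]
    exact Submodule.smul_mem _ _ (Submodule.subset_span ⟨fun i => i.elim0, by simp [mon]⟩)
  | succ n ih =>
    intro R _ _ f hf hd A _ _ τ hτ hgen x
    obtain ⟨g, hgm, hgd, hnt, hfg⟩ := exists_root hf hd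
    have h0 : f.eval₂ (algebraMap R A) (τ 0) = 0 := by
      rw [← eval_map, ← hτ, eval_prod]
      exact Finset.prod_eq_zero (Finset.mem_univ 0) (by simp)
    letI : Algebra (AdjoinRoot f) A := (AdjoinRoot.lift (algebraMap R A) (τ 0) h0).toAlgebra
    haveI : IsScalarTower R (AdjoinRoot f) A := IsScalarTower.of_algebraMap_eq fun r => by
      rw [RingHom.algebraMap_toAlgebra, AdjoinRoot.algebraMap_eq, AdjoinRoot.lift_of]
    have hroot : algebraMap (AdjoinRoot f) A (AdjoinRoot.root f) = τ 0 := AdjoinRoot.lift_root h0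
    have hτ' : ∏ i : Fin n, (X - C (τ i.succ)) = g.map (algebraMap (AdjoinRoot f) A) := by
      have h1 := hτ
      rw [Fin.prod_univ_succ, IsScalarTower.algebraMap_eq R (AdjoinRoot f) A, AdjoinRoot.algebraMap_eq, ← map_map, hfg,
        Polynomial.map_mul, Polynomial.map_sub, map_X, map_C, hroot] at h1
      exact (monic_X_sub_C (τ 0)).isRegular.left h1
    have hgen' : Algebra.adjoin (AdjoinRoot f) (Set.range fun i : Fin n => τ i.succ) = ⊤ := by
      refine eq_top_iff.2 fun y _ => ?_
      have hy : y ∈ Algebra.adjoin R (Set.range τ) := hgen ▸ Algebra.mem_top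
      refine (Algebra.adjoin_le (S := (Algebra.adjoin (AdjoinRoot f) (Set.range fun i : Fin n => τ i.succ)).restrictScalars R)
        ?_) hy
      rintro _ ⟨i, rfl⟩
      induction i using Fin.cases with
      | zero => rw [← hroot]; exact (Algebra.adjoin (AdjoinRoot f) (Set.range fun i : Fin n => τ i.succ)).algebraMap_mem _
      | succ i => exact Algebra.subset_adjoin ⟨i, rfl⟩
    have hx := ih (AdjoinRoot f) g hgm hgd A _ hτ' hgen' x
    obtain ⟨c, rfl⟩ := (Submodule.mem_span_range_iff_exists_fun _).1 hx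
    refine Submodule.sum_mem _ fun d _ => ?_
    let pb := AdjoinRoot.powerBasis' hf
    rw [← pb.basis.sum_repr (c d), Finset.sum_smul]
    refine Submodule.sum_mem _ fun e _ => ?_
    rw [smul_assoc]
    refine Submodule.smul_mem _ _ (Submodule.subset_span ⟨(stairEquiv n).symm (Fin.cast hd e, d), ?_⟩)
    rw [mon_stairEquiv_symm, PowerBasis.basis_eq_pow, Algebra.smul_def, map_pow]
    congr 2
    exact hroot.symm

/-- The coefficients with a leading one. -/
def ext1 {R : Type u} [CommRing R] {n : ℕ} (a : Fin n → R) : ℕ → R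
  | 0 => 1
  | j + 1 => if h : j < n then a ⟨j, h⟩ else 0

/-- The monic polynomial with prescribed elementary symmetric functions of the roots. -/
def charP {R : Type u} [CommRing R] {n : ℕ} (a : Fin n → R) : R[X] :=
  ∑ j ∈ Finset.range (n + 1), C ((-1) ^ j * ext1 a j) * X ^ (n - j)

theorem charP_coeff {R : Type u} [CommRing R] {n : ℕ} (a : Fin n → R) {j : ℕ} (hj : j ≤ n) :
    (charP a).coeff (n - j) = (-1) ^ j * ext1 a j := by
  rw [charP, finsetSum_coeff, Finset.sum_eq_single j]
  · rw [coeff_C_mul_X_pow, if_pos rfl]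
  · intro i hi hne
    rw [coeff_C_mul_X_pow, if_neg]
    have := Finset.mem_range.1 hi
    omega
  · intro h; exact absurd (Finset.mem_range.2 (by omega)) h

theorem charP_monic {R : Type u} [CommRing R] [Nontrivial R] {n : ℕ} (a : Fin n → R) :
    (charP a).Monic ∧ (charP a).natDegree = n := by
  have hle : (charP a).natDegree ≤ n :=
    natDegree_sum_le_of_forall_le _ _ fun j hj => (natDegree_C_mul_X_pow_le _ _).trans (Nat.sub_le _ _)
  have hc : (charP a).coeff n = 1 := by simpa [ext1] using charP_coeff a (Nat.zero_le n)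
  have hd : (charP a).natDegree = n := le_antisymm hle (le_natDegree_of_ne_zero (by rw [hc]; exact one_ne_zero))
  exact ⟨by rw [Monic, leadingCoeff, hd, hc], hd⟩

theorem charP_map {R : Type u} [CommRing R] {A : Type v} [CommRing A] (φ : R →+* A) {n : ℕ} (a : Fin n → R) :
    (charP a).map φ = charP (φ ∘ a) := by
  have e : ∀ j, φ (ext1 a j) = ext1 (φ ∘ a) j := fun j => by
    cases j with
    | zero => simp [ext1]
    | succ j => simp only [ext1]; split_ifs <;> simp
  simp [charP, Polynomial.map_sum, Polynomial.map_mul, e]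

theorem prod_eq_charP {A : Type v} [CommRing A] {n : ℕ} (τ : Fin n → A) :
    ∏ i, (X - C (τ i)) = charP (fun i : Fin n => MvPolynomial.eval τ (MvPolynomial.esymm (Fin n) A ((i : ℕ) + 1))) := by
  have hes : ∀ j, MvPolynomial.eval τ (MvPolynomial.esymm (Fin n) A j) = (Finset.univ.val.map τ).esymm j := fun j => by
    rw [← MvPolynomial.aeval_esymm_eq_multiset_esymm (Fin n) A j τ]; rfl
  have h := Multiset.prod_X_sub_X_eq_sum_esymm (Finset.univ.val.map τ)
  rw [Multiset.map_map, Multiset.card_map, Finset.card_val, Finset.card_univ, Fintype.card_fin] at h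
  refine (Finset.prod_eq_multiset_prod _ _).trans (h.trans ?_)
  rw [charP]
  refine Finset.sum_congr rfl fun j hj => ?_
  have e : ext1 (fun i : Fin n => MvPolynomial.eval τ (MvPolynomial.esymm (Fin n) A ((i : ℕ) + 1))) j =
      (Finset.univ.val.map τ).esymm j := by
    cases j with
    | zero => simp [ext1, Multiset.esymm]
    | succ j =>
      have := Finset.mem_range.1 hj
      simp only [ext1]
      rw [dif_pos (by omega), hes]
  rw [e, map_mul, map_pow, map_neg, map_one, mul_assoc]

/-- A faithful point of the splitting algebra. -/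
theorem exists_point {R : Type u} [CommRing R] [Nontrivial R] {n : ℕ} (a : Fin n → R) :
    ∃ (A : Type u) (_ : CommRing A) (_ : Algebra R A) (τ : Fin n → A),
      (∀ i : Fin n, MvPolynomial.aeval τ (MvPolynomial.esymm (Fin n) R ((i : ℕ) + 1)) = algebraMap R A (a i)) ∧
        LinearIndependent R (mon τ) := by
  obtain ⟨A, i1, i2, τ, h, hli⟩ := exists_splitting n R (charP a) (charP_monic a).1 (charP_monic a).2
  refine ⟨A, i1, i2, τ, fun i => ?_, hli⟩
  rw [prod_eq_charP, charP_map] at h
  have := congrArg (fun p => Polynomial.coeff p (n - ((i : ℕ) + 1))) h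
  simp only [charP_coeff _ (i.2 : (i : ℕ) + 1 ≤ n), ext1, dif_pos i.2, Function.comp_apply] at this
  have hu : IsUnit ((-1 : A) ^ ((i : ℕ) + 1)) := isUnit_one.neg.pow _
  rw [← hu.mul_right_inj.1 this]
  rw [← MvPolynomial.map_esymm (Fin n) R _ (algebraMap R A), MvPolynomial.eval_map, MvPolynomial.aeval_def]

theorem span_top {R : Type u} [CommRing R] {n : ℕ} (a : Fin n → R) {A : Type v} [CommRing A] [Algebra R A]
    (τ : Fin n → A) (ha : ∀ i : Fin n, MvPolynomial.aeval τ (MvPolynomial.esymm (Fin n) R ((i : ℕ) + 1)) = algebraMap R A (a i))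
    (hgen : Algebra.adjoin R (Set.range τ) = ⊤) (x : A) : x ∈ Submodule.span R (Set.range (mon τ)) := by
  rcases subsingleton_or_nontrivial R with hR | hR
  · haveI : Subsingleton A := Module.subsingleton R A
    rw [Subsingleton.elim x 0]; exact zero_mem _
  refine exists_sum_mon n R (charP a) (charP_monic a).1 (charP_monic a).2 A τ ?_ hgen x
  rw [prod_eq_charP, charP_map]
  congr 1
  funext i
  rw [Function.comp_apply, ← ha i, ← MvPolynomial.map_esymm (Fin n) R _ (algebraMap R A), MvPolynomial.eval_map,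
    MvPolynomial.aeval_def]

theorem quotient_span {R : Type u} [CommRing R] {n : ℕ} (a : Fin n → R) (w : MvPolynomial (Fin n) R) :
    ∃ c : Stair n → R, w - (∑ d, MvPolynomial.C (c d) * ∏ i, MvPolynomial.X i ^ (d i : ℕ)) ∈
      Ideal.span (Set.range fun i : Fin n => MvPolynomial.esymm (Fin n) R ((i : ℕ) + 1) - MvPolynomial.C (a i)) := by
  set I := Ideal.span (Set.range fun i : Fin n => MvPolynomial.esymm (Fin n) R ((i : ℕ) + 1) - MvPolynomial.C (a i))
  let π : MvPolynomial (Fin n) R →ₐ[R] MvPolynomial (Fin n) R ⧸ I := Ideal.Quotient.mkₐ R I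
  have h : π w ∈ Submodule.span R (Set.range (mon fun i => π (MvPolynomial.X i))) := by
    refine span_top a (fun i => π (MvPolynomial.X i)) (fun i => ?_) ?_ (π w)
    · rw [show MvPolynomial.aeval (fun i => π (MvPolynomial.X i)) = π from
        (MvPolynomial.algHom_ext fun i => by simp), ← π.commutes, MvPolynomial.algebraMap_eq]
      exact Ideal.Quotient.eq.2 (Ideal.subset_span ⟨i, rfl⟩)
    · refine eq_top_iff.2 fun v _ => ?_
      obtain ⟨v, rfl⟩ := Ideal.Quotient.mkₐ_surjective R I v
      rw [Set.range_comp' π, ← AlgHom.map_adjoin, MvPolynomial.adjoin_range_X]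
      exact ⟨v, Algebra.mem_top, rfl⟩
  obtain ⟨c, hc⟩ := (Submodule.mem_span_range_iff_exists_fun _).1 h
  refine ⟨c, Ideal.Quotient.eq.1 ?_⟩
  change π w = π _
  rw [← hc, map_sum]
  refine Finset.sum_congr rfl fun d _ => ?_
  rw [← MvPolynomial.smul_eq_C_mul, map_smul, map_prod]
  simp [mon]

end Groth.SplitAlg
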